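import Mathlib.Data.Nat.Prime.Basic
import Mathlib.Algebra.BigOperators.Group.Finset.Basic
import Mathlib.Tactic.IntervalCases
import Mathlib.Tactic.NormNum.Prime
import Mathlib.Tactic.NormNum.GCD
import Mathlib.Algebra.BigOperators.Fin
import Mathlib.Tactic.Ring

/-!
# Prime powers in the orders of the small linear groups over the field of two elements
-/

set_option autoImplicit false

namespace CfsgLib.DimBound

/-- The odd part bound of the order of the linear group. -/
def glOrd (d : ℕ) : ℕ := ∏ i : Fin d, (2 ^ d - 2 ^ (i : ℕ))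

theorem glOrd_dvd_three {d : ℕ} (hd : d ≤ 3) : glOrd d ∣ 2 ^ 3 * (3 * 7) := by
  interval_cases d <;> norm_num [glOrd, Fin.prod_univ_succ]

theorem glOrd_dvd_five {d : ℕ} (hd : d ≤ 5) : glOrd d ∣ 2 ^ 10 * (3 ^ 2 * 5 * 7 * 31) := by
  interval_cases d <;> norm_num [glOrd, Fin.prod_univ_succ]

theorem glOrd_dvd_seven {d : ℕ} (hd : d ≤ 7) : glOrd d ∣ 2 ^ 21 * (3 ^ 4 * 5 * 7 ^ 2 * 31 * 127) := by
  interval_cases d <;> norm_num [glOrd, Fin.prod_univ_succ]

theorem glOrd_dvd_nine {d : ℕ} (hd : d ≤ 9) :
    glOrd d ∣ 2 ^ 36 * (3 ^ 5 * 5 ^ 2 * 7 ^ 3 * 17 * 31 * 73 * 127) := by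
  interval_cases d <;> norm_num [glOrd, Fin.prod_univ_succ]

theorem three_part {d : ℕ} (hd : d ≤ 7) : ¬ 3 ^ 5 ∣ glOrd d := fun h => by
  have := h.trans (glOrd_dvd_seven hd)
  norm_num at this

theorem seven_part {d : ℕ} (hd : d ≤ 7) : ¬ 7 ^ 3 ∣ glOrd d := fun h => by
  have := h.trans (glOrd_dvd_seven hd)
  norm_num at this

theorem three_part_five {d : ℕ} (hd : d ≤ 5) : ¬ 3 ^ 3 ∣ glOrd d := fun h => by
  have := h.trans (glOrd_dvd_five hd)
  norm_num at this

theorem exp_le {p b e N : ℕ} (h : p ^ b ∣ N) (he : ¬ p ^ (e + 1) ∣ N) : b ≤ e := by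
  by_contra hb
  exact he ((pow_dvd_pow p (by omega)).trans h)

theorem eq_of_dvd_pow {l p e : ℕ} (hl : l.Prime) (hp : p.Prime) (h : l ∣ p ^ e) : l = p :=
  (Nat.prime_dvd_prime_iff_eq hl hp).1 (hl.dvd_of_dvd_pow h)

theorem eq_of_dvd {l p : ℕ} (hl : l.Prime) (hp : p.Prime) (h : l ∣ p) : l = p :=
  (Nat.prime_dvd_prime_iff_eq hl hp).1 h

/-- The prime powers compatible with a semiregular action of a group of order `2 ^ k`. -/
theorem primePower_cases {k d l b : ℕ} (hl : l.Prime) (hl2 : l ≠ 2) (hb : 0 < b) (hk2 : 2 ≤ k) (hk5 : k ≤ 5)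
    (hd : d < 2 * k) (hdiv : l ^ b ∣ glOrd d) (hmod : (l ^ b - 1) % 2 ^ k = 0) :
    (k = 3 ∧ l = 3 ∧ b = 2) ∨ (k = 4 ∧ l = 3 ∧ b = 4) ∨ (k = 4 ∧ l = 7 ∧ b = 2) := by
  have hcop : ∀ a, (l ^ b).Coprime (2 ^ a) := fun a =>
    Nat.Coprime.pow _ _ ((Nat.coprime_primes hl Nat.prime_two).2 hl2)
  have hlb : l ∣ l ^ b := dvd_pow_self l (by omega)
  interval_cases k
  · have h := (hcop _).dvd_of_dvd_mul_left (hdiv.trans (glOrd_dvd_three (by omega)))
    rcases hl.dvd_mul.1 (hlb.trans h) with e | e <;> obtain rfl := eq_of_dvd hl (by norm_num) e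
    · have := exp_le (e := 1) h (by norm_num)
      interval_cases b; norm_num at hmod
    · have := exp_le (e := 1) h (by norm_num)
      interval_cases b; norm_num at hmod
  · have h := (hcop _).dvd_of_dvd_mul_left (hdiv.trans (glOrd_dvd_five (by omega)))
    have h' := hlb.trans h
    simp only [hl.dvd_mul] at h'
    rcases h' with ((e | e) | e) | e
    · obtain rfl := eq_of_dvd_pow hl (by norm_num) e
      have := exp_le (e := 2) h (by norm_num)
      interval_cases b <;> norm_num at hmod <;> omega
    all_goals
      obtain rfl := eq_of_dvd hl (by norm_num) e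
      have := exp_le (e := 1) h (by norm_num)
      interval_cases b <;> norm_num at hmod
  · have h := (hcop _).dvd_of_dvd_mul_left (hdiv.trans (glOrd_dvd_seven (by omega)))
    have h' := hlb.trans h
    simp only [hl.dvd_mul] at h'
    rcases h' with (((e | e) | e) | e) | e
    · obtain rfl := eq_of_dvd_pow hl (by norm_num) e
      have := exp_le (e := 4) h (by norm_num)
      interval_cases b <;> norm_num at hmod <;> omega
    · obtain rfl := eq_of_dvd hl (by norm_num) e
      have := exp_le (e := 1) h (by norm_num)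
      interval_cases b; norm_num at hmod
    · obtain rfl := eq_of_dvd_pow hl (by norm_num) e
      have := exp_le (e := 2) h (by norm_num)
      interval_cases b <;> norm_num at hmod <;> omega
    all_goals
      obtain rfl := eq_of_dvd hl (by norm_num) e
      have := exp_le (e := 1) h (by norm_num)
      interval_cases b <;> norm_num at hmod
  · have h := (hcop _).dvd_of_dvd_mul_left (hdiv.trans (glOrd_dvd_nine (by omega)))
    have h' := hlb.trans h
    simp only [hl.dvd_mul] at h'
    rcases h' with (((((e | e) | e) | e) | e) | e) | e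
    · obtain rfl := eq_of_dvd_pow hl (by norm_num) e
      have := exp_le (e := 5) h (by norm_num)
      interval_cases b <;> norm_num at hmod
    · obtain rfl := eq_of_dvd_pow hl (by norm_num) e
      have := exp_le (e := 2) h (by norm_num)
      interval_cases b <;> norm_num at hmod
    · obtain rfl := eq_of_dvd_pow hl (by norm_num) e
      have := exp_le (e := 3) h (by norm_num)
      interval_cases b <;> norm_num at hmod
    all_goals
      obtain rfl := eq_of_dvd hl (by norm_num) e
      have := exp_le (e := 1) h (by norm_num)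
      interval_cases b <;> norm_num at hmod

/-- No orbit pattern for a group of order 9. -/
theorem false_of_nine {d : ℕ} (n : ℕ → ℕ) (hd : d ≤ 5) (hn : ∀ c, c < d → 8 ∣ n c)
    (hpar : ∀ c, c < d → (2 ^ d + 2 * 2 ^ c) % 3 ≠ 0 → n c = 0)
    (htot : ∑ c ∈ Finset.range d, n c = 8)
    (hcong : (2 ^ d + ∑ c ∈ Finset.range d, n c * 2 ^ c) % 9 = 0) : False := by
  choose! m hm using hn
  interval_cases d
  · simp only [Finset.sum_range_succ, Finset.sum_range_zero] at htot hcong
    omega
  · simp only [Finset.sum_range_succ, Finset.sum_range_zero] at htot hcong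
    rw [hpar 0 (by norm_num) (by norm_num)] at htot hcong
    omega
  · simp only [Finset.sum_range_succ, Finset.sum_range_zero] at htot hcong
    rw [hpar 1 (by norm_num) (by norm_num)] at htot hcong
    rw [hm 0 (by norm_num)] at htot hcong
    omega
  · simp only [Finset.sum_range_succ, Finset.sum_range_zero] at htot hcong
    rw [hpar 0 (by norm_num) (by norm_num)] at htot hcong
    rw [hpar 2 (by norm_num) (by norm_num)] at htot hcong
    rw [hm 1 (by norm_num)] at htot hcong
    omega
  · simp only [Finset.sum_range_succ, Finset.sum_range_zero] at htot hcong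
    rw [hpar 1 (by norm_num) (by norm_num)] at htot hcong
    rw [hpar 3 (by norm_num) (by norm_num)] at htot hcong
    rw [hm 0 (by norm_num)] at htot hcong
    rw [hm 2 (by norm_num)] at htot hcong
    have : m 0 ≤ 1 := by omega
    interval_cases m 0 <;> omega
  · simp only [Finset.sum_range_succ, Finset.sum_range_zero] at htot hcong
    rw [hpar 0 (by norm_num) (by norm_num)] at htot hcong
    rw [hpar 2 (by norm_num) (by norm_num)] at htot hcong
    rw [hpar 4 (by norm_num) (by norm_num)] at htot hcong
    rw [hm 1 (by norm_num)] at htot hcong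
    rw [hm 3 (by norm_num)] at htot hcong
    have : m 1 ≤ 1 := by omega
    interval_cases m 1 <;> omega

/-- No orbit pattern for a group of order 81. -/
theorem false_of_eightyOne {d : ℕ} (n : ℕ → ℕ) (hd : d ≤ 7) (hn : ∀ c, c < d → 16 ∣ n c)
    (hpar : ∀ c, c < d → (2 ^ d + 2 * 2 ^ c) % 3 ≠ 0 → n c = 0)
    (htot : ∑ c ∈ Finset.range d, n c = 80)
    (hcong : (2 ^ d + ∑ c ∈ Finset.range d, n c * 2 ^ c) % 81 = 0) : False := by
  choose! m hm using hn
  interval_cases d
  · simp only [Finset.sum_range_succ, Finset.sum_range_zero] at htot hcong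
    omega
  · simp only [Finset.sum_range_succ, Finset.sum_range_zero] at htot hcong
    rw [hpar 0 (by norm_num) (by norm_num)] at htot hcong
    omega
  · simp only [Finset.sum_range_succ, Finset.sum_range_zero] at htot hcong
    rw [hpar 1 (by norm_num) (by norm_num)] at htot hcong
    rw [hm 0 (by norm_num)] at htot hcong
    omega
  · simp only [Finset.sum_range_succ, Finset.sum_range_zero] at htot hcong
    rw [hpar 0 (by norm_num) (by norm_num)] at htot hcong
    rw [hpar 2 (by norm_num) (by norm_num)] at htot hcong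
    rw [hm 1 (by norm_num)] at htot hcong
    omega
  · simp only [Finset.sum_range_succ, Finset.sum_range_zero] at htot hcong
    rw [hpar 1 (by norm_num) (by norm_num)] at htot hcong
    rw [hpar 3 (by norm_num) (by norm_num)] at htot hcong
    rw [hm 0 (by norm_num)] at htot hcong
    rw [hm 2 (by norm_num)] at htot hcong
    have : m 0 ≤ 5 := by omega
    interval_cases m 0 <;> omega
  · simp only [Finset.sum_range_succ, Finset.sum_range_zero] at htot hcong
    rw [hpar 0 (by norm_num) (by norm_num)] at htot hcong
    rw [hpar 2 (by norm_num) (by norm_num)] at htot hcong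
    rw [hpar 4 (by norm_num) (by norm_num)] at htot hcong
    rw [hm 1 (by norm_num)] at htot hcong
    rw [hm 3 (by norm_num)] at htot hcong
    have : m 1 ≤ 5 := by omega
    interval_cases m 1 <;> omega
  · simp only [Finset.sum_range_succ, Finset.sum_range_zero] at htot hcong
    rw [hpar 1 (by norm_num) (by norm_num)] at htot hcong
    rw [hpar 3 (by norm_num) (by norm_num)] at htot hcong
    rw [hpar 5 (by norm_num) (by norm_num)] at htot hcong
    rw [hm 0 (by norm_num)] at htot hcong
    rw [hm 2 (by norm_num)] at htot hcong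
    rw [hm 4 (by norm_num)] at htot hcong
    have : m 0 ≤ 5 := by omega
    have : m 2 ≤ 5 := by omega
    interval_cases m 0 <;> interval_cases m 2 <;> omega
  · simp only [Finset.sum_range_succ, Finset.sum_range_zero] at htot hcong
    rw [hpar 0 (by norm_num) (by norm_num)] at htot hcong
    rw [hpar 2 (by norm_num) (by norm_num)] at htot hcong
    rw [hpar 4 (by norm_num) (by norm_num)] at htot hcong
    rw [hpar 6 (by norm_num) (by norm_num)] at htot hcong
    rw [hm 1 (by norm_num)] at htot hcong
    rw [hm 3 (by norm_num)] at htot hcong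
    rw [hm 5 (by norm_num)] at htot hcong
    have : m 1 ≤ 5 := by omega
    have : m 3 ≤ 5 := by omega
    interval_cases m 1 <;> interval_cases m 3 <;> omega

/-- No orbit pattern for a group of order 49. -/
theorem false_of_fortyNine {d : ℕ} (n : ℕ → ℕ) (hd : d ≤ 7) (hn : ∀ c, c < d → 16 ∣ n c)
    (hpar : ∀ c, c < d → (2 ^ d + 6 * 2 ^ c) % 7 ≠ 0 → n c = 0)
    (htot : ∑ c ∈ Finset.range d, n c = 48)
    (hcong : (2 ^ d + ∑ c ∈ Finset.range d, n c * 2 ^ c) % 49 = 0) : False := by
  choose! m hm using hn
  interval_cases d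
  · simp only [Finset.sum_range_succ, Finset.sum_range_zero] at htot hcong
    omega
  · simp only [Finset.sum_range_succ, Finset.sum_range_zero] at htot hcong
    rw [hpar 0 (by norm_num) (by norm_num)] at htot hcong
    omega
  · simp only [Finset.sum_range_succ, Finset.sum_range_zero] at htot hcong
    rw [hpar 0 (by norm_num) (by norm_num)] at htot hcong
    rw [hpar 1 (by norm_num) (by norm_num)] at htot hcong
    omega
  · simp only [Finset.sum_range_succ, Finset.sum_range_zero] at htot hcong
    rw [hpar 1 (by norm_num) (by norm_num)] at htot hcong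
    rw [hpar 2 (by norm_num) (by norm_num)] at htot hcong
    rw [hm 0 (by norm_num)] at htot hcong
    omega
  · simp only [Finset.sum_range_succ, Finset.sum_range_zero] at htot hcong
    rw [hpar 0 (by norm_num) (by norm_num)] at htot hcong
    rw [hpar 2 (by norm_num) (by norm_num)] at htot hcong
    rw [hpar 3 (by norm_num) (by norm_num)] at htot hcong
    rw [hm 1 (by norm_num)] at htot hcong
    omega
  · simp only [Finset.sum_range_succ, Finset.sum_range_zero] at htot hcong
    rw [hpar 0 (by norm_num) (by norm_num)] at htot hcong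
    rw [hpar 1 (by norm_num) (by norm_num)] at htot hcong
    rw [hpar 3 (by norm_num) (by norm_num)] at htot hcong
    rw [hpar 4 (by norm_num) (by norm_num)] at htot hcong
    rw [hm 2 (by norm_num)] at htot hcong
    omega
  · simp only [Finset.sum_range_succ, Finset.sum_range_zero] at htot hcong
    rw [hpar 1 (by norm_num) (by norm_num)] at htot hcong
    rw [hpar 2 (by norm_num) (by norm_num)] at htot hcong
    rw [hpar 4 (by norm_num) (by norm_num)] at htot hcong
    rw [hpar 5 (by norm_num) (by norm_num)] at htot hcong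
    rw [hm 0 (by norm_num)] at htot hcong
    rw [hm 3 (by norm_num)] at htot hcong
    have : m 0 ≤ 3 := by omega
    interval_cases m 0 <;> omega
  · simp only [Finset.sum_range_succ, Finset.sum_range_zero] at htot hcong
    rw [hpar 0 (by norm_num) (by norm_num)] at htot hcong
    rw [hpar 2 (by norm_num) (by norm_num)] at htot hcong
    rw [hpar 3 (by norm_num) (by norm_num)] at htot hcong
    rw [hpar 5 (by norm_num) (by norm_num)] at htot hcong
    rw [hpar 6 (by norm_num) (by norm_num)] at htot hcong
    rw [hm 1 (by norm_num)] at htot hcong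
    rw [hm 4 (by norm_num)] at htot hcong
    have : m 1 ≤ 3 := by omega
    interval_cases m 1 <;> omega

end CfsgLib.DimBound
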