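import Mathlib.RepresentationTheory.Basic
import Mathlib.GroupTheory.GroupAction.Quotient
import Mathlib.GroupTheory.OrderOfElement
import Mathlib.LinearAlgebra.FiniteDimensional.Basic
import Mathlib.LinearAlgebra.Charpoly.Basic
import Mathlib.Algebra.CharP.Lemmas
import Mathlib.GroupTheory.PGroup
import Mathlib.Algebra.Field.ZMod
import Mathlib.FieldTheory.Finiteness
import Mathlib.Algebra.CharP.Algebra
import Mathlib.LinearAlgebra.Eigenspace.Zero

/-!
# Fixed spaces, semiregular conjugation and orbit counting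
-/

set_option autoImplicit false

namespace CfsgLib.DimBound

open Subgroup

variable {G : Type*} [Group G]
variable {V : Type*} [AddCommGroup V] [Module (ZMod 2) V]

/-- A set on which a subgroup acts freely by conjugation. -/
theorem dvd_card_free [Finite G] (D : Subgroup G) (P : G → Prop)
    (hP : ∀ c ∈ D, ∀ x, P x → P (c * x * c⁻¹))
    (hfix : ∀ c ∈ D, ∀ x, P x → c * x = x * c → c = 1) : Nat.card D ∣ Nat.card {x : G // P x} := by
  classical
  letI : MulAction D {x : G // P x} :=
    { smul := fun c x => ⟨(c : G) * x * (c : G)⁻¹, hP c c.2 x x.2⟩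
      one_smul := fun x => Subtype.ext (by show (1 : G) * x * (1 : G)⁻¹ = x; group)
      mul_smul := fun c c' x => Subtype.ext (by
        show (c : G) * c' * x * ((c : G) * c')⁻¹ = c * ((c' : G) * x * (c' : G)⁻¹) * (c : G)⁻¹
        group) }
  haveI : Fintype (MulAction.orbitRel.Quotient D {x : G // P x}) := Fintype.ofFinite _
  rw [Nat.card_congr (MulAction.selfEquivSigmaOrbits D {x : G // P x}), Nat.card_sigma]
  refine Finset.dvd_sum fun q _ => ?_
  have hst : MulAction.stabilizer D q.out = ⊥ := by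
    refine (Subgroup.eq_bot_iff_forall _).2 fun c hc => Subtype.ext (hfix c c.2 _ q.out.2 ?_)
    exact mul_inv_eq_iff_eq_mul.1 (congrArg Subtype.val (MulAction.mem_stabilizer_iff.1 hc))
  rw [Nat.card_congr (MulAction.orbitEquivQuotientStabilizer D q.out), hst, ← Subgroup.index_eq_card,
    Subgroup.index_bot]

/-- The dimension of the fixed space. -/
noncomputable def fd (ρ : Representation (ZMod 2) G V) (r : G) : ℕ :=
  Module.finrank (ZMod 2) (LinearMap.ker (ρ r - 1))

theorem mem_ker_sub_one {ρ : Representation (ZMod 2) G V} {r : G} {v : V} :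
    v ∈ LinearMap.ker (ρ r - 1) ↔ ρ r v = v := by
  simp [sub_eq_zero]

theorem fd_one (ρ : Representation (ZMod 2) G V) : fd ρ 1 = Module.finrank (ZMod 2) V := by
  rw [fd, map_one, sub_self, LinearMap.ker_zero, finrank_top]

variable [Module.Finite (ZMod 2) V]

theorem fd_lt {ρ : Representation (ZMod 2) G V} (hρ : Function.Injective ρ) {r : G} (hr : r ≠ 1) :
    fd ρ r < Module.finrank (ZMod 2) V := by
  haveI : Fact (Nat.Prime 2) := ⟨Nat.prime_two⟩
  unfold fd
  refine Submodule.finrank_lt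
    (fun h => hr (hρ (LinearMap.ext fun v => ?_)))
  rw [map_one, Module.End.one_apply]
  exact mem_ker_sub_one.1 (h ▸ Submodule.mem_top)

theorem fd_conj (ρ : Representation (ZMod 2) G V) (g r : G) : fd ρ (g * r * g⁻¹) = fd ρ r := by
  let e : V ≃ₗ[ZMod 2] V := LinearEquiv.ofLinear (ρ g) (ρ g⁻¹)
    (by rw [← Module.End.mul_eq_comp, ← map_mul, mul_inv_cancel, map_one]; rfl)
    (by rw [← Module.End.mul_eq_comp, ← map_mul, inv_mul_cancel, map_one]; rfl)
  have hmap : (LinearMap.ker (ρ r - 1)).map (e : V →ₗ[ZMod 2] V) = LinearMap.ker (ρ (g * r * g⁻¹) - 1) := by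
    ext v
    rw [Submodule.mem_map]
    constructor
    · rintro ⟨w, hw, rfl⟩
      rw [mem_ker_sub_one] at hw ⊢
      show ρ (g * r * g⁻¹) (ρ g w) = ρ g w
      rw [← Module.End.mul_apply, ← map_mul, inv_mul_cancel_right, map_mul, Module.End.mul_apply, hw]
    · intro hv
      rw [mem_ker_sub_one] at hv
      refine ⟨ρ g⁻¹ v, mem_ker_sub_one.2 ?_, ?_⟩
      · rw [← Module.End.mul_apply, ← map_mul, show r * g⁻¹ = g⁻¹ * (g * r * g⁻¹) by group, map_mul,
          Module.End.mul_apply, hv]
      · show ρ g (ρ g⁻¹ v) = v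
        rw [← Module.End.mul_apply, ← map_mul, mul_inv_cancel, map_one, Module.End.one_apply]
  rw [fd, fd, ← hmap, LinearEquiv.finrank_map_eq]

theorem ker_le_pow (ρ : Representation (ZMod 2) G V) (r : G) (n : ℕ) :
    LinearMap.ker (ρ r - 1) ≤ LinearMap.ker (ρ (r ^ n) - 1) := by
  intro v hv
  rw [mem_ker_sub_one] at hv ⊢
  induction n with
  | zero => simp
  | succ n ih => rw [pow_succ, map_mul, Module.End.mul_apply, hv, ih]

theorem fd_eq_of_mem_zpowers [Finite G] (ρ : Representation (ZMod 2) G V) {r x : G} {l : ℕ} [Fact l.Prime]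
    (hr : orderOf r = l) (hx : x ∈ zpowers r) (hx1 : x ≠ 1) : fd ρ x = fd ρ r := by
  have hxo : orderOf x = l := by
    refine orderOf_eq_prime ?_ hx1
    obtain ⟨i, rfl⟩ := mem_zpowers_iff.1 hx
    rw [← zpow_natCast, ← zpow_mul, mul_comm, zpow_mul, zpow_natCast, ← hr, pow_orderOf_eq_one, one_zpow]
  have heq : zpowers x = zpowers r :=
    eq_of_le_of_card_ge (zpowers_le.2 hx) (by rw [Nat.card_zpowers, Nat.card_zpowers, hr, hxo])
  obtain ⟨i, hi⟩ := mem_powers_iff_mem_zpowers.2 hx
  obtain ⟨j, hj⟩ := mem_powers_iff_mem_zpowers.2 (heq ▸ mem_zpowers r)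
  exact le_antisymm (Submodule.finrank_mono ((ker_le_pow ρ x j).trans (le_of_eq (by rw [show x ^ j = r from hj]))))
    (Submodule.finrank_mono ((ker_le_pow ρ r i).trans (le_of_eq (by rw [show r ^ i = x from hi]))))

/-- Orbit counting for a subgroup in a module over the field of two elements. -/
theorem card_dvd_sum [Finite G] (ρ : Representation (ZMod 2) G V) (R : Subgroup G) [Fintype R] :
    Nat.card R ∣ ∑ r : R, 2 ^ fd ρ (r : G) := by
  classical
  haveI : Fact (Nat.Prime 2) := ⟨Nat.prime_two⟩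
  haveI : Finite V := Module.finite_of_finite (ZMod 2)
  letI := Fintype.ofFinite V
  letI : MulAction R V :=
    { smul := fun r v => ρ (r : G) v
      one_smul := fun v => by show ρ ((1 : R) : G) v = v; rw [OneMemClass.coe_one, map_one]; rfl
      mul_smul := fun a b v => by
        show ρ ((a * b : R) : G) v = ρ (a : G) (ρ (b : G) v)
        rw [Subgroup.coe_mul, map_mul]; rfl }
  haveI : Fintype (Quotient (MulAction.orbitRel R V)) := Fintype.ofFinite _
  refine ⟨Fintype.card (Quotient (MulAction.orbitRel R V)), ?_⟩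
  rw [Nat.card_eq_fintype_card, mul_comm, ← MulAction.sum_card_fixedBy_eq_card_orbits_mul_card_group]
  refine Finset.sum_congr rfl fun r _ => ?_
  have h2 : Nat.card (LinearMap.ker (ρ (r : G) - 1)) = 2 ^ fd ρ (r : G) := by
    rw [fd, Module.natCard_eq_pow_finrank (K := ZMod 2), Nat.card_zmod]
  rw [← h2, ← Nat.card_eq_fintype_card]
  exact Nat.card_congr (Equiv.subtypeEquivRight fun v => mem_ker_sub_one)

/-- The sum, sorted by the dimension of the fixed space. -/
theorem sum_eq [Finite G] {ρ : Representation (ZMod 2) G V} (hρ : Function.Injective ρ) (R : Subgroup G)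
    [Fintype R] :
    ∑ r : R, 2 ^ fd ρ (r : G) = 2 ^ Module.finrank (ZMod 2) V +
      ∑ c ∈ Finset.range (Module.finrank (ZMod 2) V),
        Nat.card {x : G // x ∈ R ∧ x ≠ 1 ∧ fd ρ x = c} * 2 ^ c ∧
    ∑ c ∈ Finset.range (Module.finrank (ZMod 2) V),
      Nat.card {x : G // x ∈ R ∧ x ≠ 1 ∧ fd ρ x = c} = Nat.card R - 1 := by
  classical
  have hmap : ∀ r ∈ (Finset.univ : Finset R).erase 1, fd ρ (r : G) ∈ Finset.range (Module.finrank (ZMod 2) V) :=
    fun r hr => Finset.mem_range.2 (fd_lt hρ fun e => (Finset.mem_erase.1 hr).1 (Subtype.ext e))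
  have hcard : ∀ c, Nat.card {x : G // x ∈ R ∧ x ≠ 1 ∧ fd ρ x = c} =
      (((Finset.univ : Finset R).erase 1).filter fun r : R => fd ρ (r : G) = c).card := by
    intro c
    rw [← Fintype.card_coe, ← Nat.card_eq_fintype_card]
    exact Nat.card_congr
      { toFun := fun x => ⟨⟨x.1, x.2.1⟩, Finset.mem_filter.2 ⟨Finset.mem_erase.2
          ⟨fun e => x.2.2.1 (congrArg Subtype.val e), Finset.mem_univ _⟩, x.2.2.2⟩⟩
        invFun := fun r => ⟨((r : R) : G), (r : R).2,
          fun e => (Finset.mem_erase.1 (Finset.mem_filter.1 r.2).1).1 (Subtype.ext e),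
          (Finset.mem_filter.1 r.2).2⟩
        left_inv := fun x => rfl
        right_inv := fun r => rfl }
  simp only [hcard]
  refine ⟨?_, ?_⟩
  · rw [← Finset.add_sum_erase _ _ (Finset.mem_univ (1 : R)), OneMemClass.coe_one, fd_one,
      ← Finset.sum_fiberwise_of_maps_to hmap]
    refine congrArg _ (Finset.sum_congr rfl fun c _ => ?_)
    rw [Finset.sum_congr rfl (fun r hr => by rw [(Finset.mem_filter.1 hr).2]), Finset.sum_const, smul_eq_mul]
  · rw [← Finset.card_eq_sum_card_fiberwise hmap, Finset.card_erase_of_mem (Finset.mem_univ _),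
      Finset.card_univ, Nat.card_eq_fintype_card]

/-- Two-elements of order `2 ^ (e + 1)` need dimension above `2 ^ e`. -/
theorem two_pow_lt_finrank {ρ : Representation (ZMod 2) G V} (hρ : Function.Injective ρ) {u : G} {e : ℕ}
    (hu : orderOf u = 2 ^ (e + 1)) : 2 ^ e < Module.finrank (ZMod 2) V := by
  haveI : Fact (Nat.Prime 2) := ⟨Nat.prime_two⟩
  by_contra hle
  push Not at hle
  rcases subsingleton_or_nontrivial (Module.End (ZMod 2) V) with hsub | hnt
  · have : u = 1 := hρ (Subsingleton.elim _ _)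
    rw [this, orderOf_one] at hu
    have : 1 < 2 ^ (e + 1) := Nat.one_lt_two_pow (by omega)
    omega
  haveI : CharP (Module.End (ZMod 2) V) 2 := charP_of_injective_algebraMap (algebraMap (ZMod 2) _).injective 2
  have hpow : ∀ j, (ρ u - 1) ^ 2 ^ j = ρ (u ^ 2 ^ j) - 1 := fun j => by
    rw [sub_pow_char_pow_of_commute _ _ (Commute.one_right _), one_pow, map_pow]
  have hnil : IsNilpotent (ρ u - 1) := ⟨2 ^ (e + 1), by rw [hpow, ← hu, pow_orderOf_eq_one, map_one, sub_self]⟩
  have h0 : (ρ u - 1) ^ Module.finrank (ZMod 2) V = 0 := by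
    have h := LinearMap.aeval_self_charpoly (ρ u - 1)
    rwa [(LinearMap.isNilpotent_iff_charpoly _).1 hnil, map_pow, Polynomial.aeval_X] at h
  have h1 : (ρ u - 1) ^ 2 ^ e = 0 := pow_eq_zero_of_le hle h0
  rw [hpow, sub_eq_zero, ← map_one ρ] at h1
  have h2 := Nat.le_of_dvd (by positivity) (orderOf_dvd_of_pow_eq_one (hρ h1))
  rw [hu] at h2
  have : 2 ^ e < 2 ^ (e + 1) := Nat.pow_lt_pow_right one_lt_two (by omega)
  omega

end CfsgLib.DimBound
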