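import Cfsg.Agent.Lib.Char.Zsigmondy.Main
import Mathlib.RepresentationTheory.Basic
import Mathlib.LinearAlgebra.Matrix.GeneralLinearGroup.Card

/-!
# Dimension bounds from primitive prime divisors of `2 ^ m - 1`
-/

set_option autoImplicit false

namespace CfsgLib.DimBound

open CfsgLib.Char.Zsigmondy

variable {G : Type*} [Group G] [Finite G]
variable {V : Type*} [AddCommGroup V] [Module (ZMod 2) V] [Module.Finite (ZMod 2) V]

/-- The order of a group of linear maps in characteristic two divides the order of the linear group. -/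
theorem card_dvd_linear (ρ : Representation (ZMod 2) G V) (hρ : Function.Injective ρ) :
    Nat.card G ∣ ∏ i : Fin (Module.finrank (ZMod 2) V), (2 ^ Module.finrank (ZMod 2) V - 2 ^ (i : ℕ)) := by
  haveI : Fact (Nat.Prime 2) := ⟨Nat.prime_two⟩
  have hinj : Function.Injective ρ.toHomUnits := fun a b h => hρ (congrArg Units.val h)
  have h := Subgroup.card_dvd_of_injective ρ.toHomUnits hinj
  have e := (Units.mapEquiv (algEquivMatrix (Module.finBasis (ZMod 2) V)).toMulEquiv).toEquiv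
  rw [Nat.card_congr e] at h
  have hc := Matrix.card_GL_field (𝔽 := ZMod 2) (Module.finrank (ZMod 2) V)
  rw [ZMod.card] at hc
  exact hc ▸ h

/-- A primitive divisor of `2 ^ m - 1` in the group order forces dimension at least `m`. -/
theorem le_finrank_of_prim (ρ : Representation (ZMod 2) G V) (hρ : Function.Injective ρ) {m p : ℕ}
    (hp : Prim 2 m p) (h : p ∣ Nat.card G) : m ≤ Module.finrank (ZMod 2) V := by
  by_contra hm
  push Not at hm
  obtain ⟨i, -, hi⟩ := (hp.1.prime.dvd_finsetProd_iff _).1 (h.trans (card_dvd_linear ρ hρ))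
  have hid := i.2
  have hp2 : ¬ p ∣ 2 ^ (i : ℕ) := by
    intro h2
    have h2' := (Nat.prime_dvd_prime_iff_eq hp.1 Nat.prime_two).1 (hp.1.dvd_of_dvd_pow h2)
    have hodd : p ∣ 2 ^ m - 1 := hp.2.1
    have hev : p ∣ 2 ^ m := by rw [h2']; exact dvd_pow_self 2 (show m ≠ 0 by omega)
    have := Nat.dvd_sub hev hodd
    rw [show 2 ^ m - (2 ^ m - 1) = 1 by have := Nat.one_le_two_pow (n := m); omega] at this
    exact hp.1.one_lt.ne' (Nat.dvd_one.1 this)
  have hfac : 2 ^ Module.finrank (ZMod 2) V - 2 ^ (i : ℕ) =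
      2 ^ (i : ℕ) * (2 ^ (Module.finrank (ZMod 2) V - i) - 1) := by
    rw [Nat.mul_sub, ← pow_add, mul_one, Nat.add_sub_cancel' hid.le]
  rw [hfac] at hi
  rcases hp.1.dvd_mul.1 hi with h1 | h1
  · exact hp2 h1
  · exact hp.2.2 _ (by omega) (by omega) h1

/-- A primitive divisor of `2 ^ (2 * k) - 1` divides `2 ^ k + 1`. -/
theorem exists_prim_dvd_succ {k : ℕ} (hk : 1 ≤ k) (hk3 : k ≠ 3) : ∃ p, Prim 2 (2 * k) p ∧ p ∣ 2 ^ k + 1 := by
  obtain ⟨p, hp⟩ := exists_prim 2 (2 * k) one_lt_two (by omega) (by omega) (by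
    rintro ⟨-, m, hm⟩
    rcases Nat.eq_zero_or_pos m with rfl | h0
    · norm_num at hm
    · have : 2 ∣ (3 : ℕ) := ⟨2 ^ (m - 1), by rw [← pow_succ', Nat.sub_add_cancel h0]; omega⟩
      omega)
  refine ⟨p, hp, ?_⟩
  have h : p ∣ (2 ^ k + 1) * (2 ^ k - 1) := by
    rw [← Nat.sq_sub_sq, ← pow_mul, one_pow, mul_comm k 2]; exact hp.2.1
  rcases hp.1.dvd_mul.1 h with h1 | h1
  · exact h1
  · exact absurd h1 (hp.2.2 k hk (by omega))

/-- Divisibility of the order by `2 ^ k + 1`, `k ≠ 3`, forces dimension at least `2 * k`. -/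
theorem two_mul_le_finrank (ρ : Representation (ZMod 2) G V) (hρ : Function.Injective ρ) {k : ℕ}
    (hk3 : k ≠ 3) (hn : 2 ^ k + 1 ∣ Nat.card G) : 2 * k ≤ Module.finrank (ZMod 2) V := by
  rcases Nat.eq_zero_or_pos k with rfl | hk
  · simp
  · obtain ⟨p, hp, hpn⟩ := exists_prim_dvd_succ hk hk3
    exact le_finrank_of_prim ρ hρ hp (hpn.trans hn)

end CfsgLib.DimBound
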