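import Cfsg.Agent.Lib.Bender.RankOne
import Cfsg.Agent.Lib.Bender.Core.Setup
import Cfsg.Agent.Lib.Invol.StronglyEmbeddedOrbits
import Cfsg.Agent.Lib.Coprime.Action
import Cfsg.Agent.Lib.Bender.Consumers.DimBound.Prime
import Cfsg.Agent.Lib.Bender.Consumers.DimBound.Arith
import Cfsg.Agent.Lib.Bender.Consumers.DimBound.Free

/-!
# Dimension bounds for groups with a strongly embedded subgroup and no commuting involutions
-/

set_option autoImplicit false
set_option linter.style.haveILetI false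

namespace CfsgLib.Bender.ModDim

open Subgroup CfsgLib.DimBound

universe u

variable {G : Type u} [Group G] [Finite G]
variable {V : Type*} [AddCommGroup V] [Module (ZMod 2) V] [Module.Finite (ZMod 2) V]
  (rho : Representation (ZMod 2) G V)

/-- A subgroup with a fixed-point-free semiregular two-group, of one of three orders. -/
theorem false_of_free_action (hrho : Function.Injective rho) (S R : Subgroup G) {t : G} {k l b : ℕ}
    (hl : l.Prime) (hd : Module.finrank (ZMod 2) V < 2 * k) (ht : t ∈ S) (htt : t * t = 1) (ht1 : t ≠ 1)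
    (hk : Nat.card S = 2 ^ k) (hSR : ∀ c ∈ S, ∀ x ∈ R, c * x * c⁻¹ ∈ R)
    (hfree : ∀ c ∈ S, ∀ x ∈ R, x ≠ 1 → c * x = x * c → c = 1)
    (hR : Nat.card R = l ^ b)
    (hcase : (k = 3 ∧ l = 3 ∧ b = 2) ∨ (k = 4 ∧ l = 3 ∧ b = 4) ∨ (k = 4 ∧ l = 7 ∧ b = 2)) : False := by
  classical
  haveI : Fact l.Prime := ⟨hl⟩
  haveI : Fintype R := Fintype.ofFinite R
  have htinv : t⁻¹ = t := inv_eq_of_mul_eq_one_right htt
  -- `t` inverts `R`
  have hinv : ∀ x ∈ R, t * x * t = x⁻¹ := by
    intro x hx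
    let f : R → R := fun y => ⟨(y : G)⁻¹ * (t * y * t⁻¹), mul_mem (inv_mem y.2) (hSR t ht y y.2)⟩
    have hf : Function.Injective f := by
      intro y z h
      have h' : (y : G)⁻¹ * (t * y * t⁻¹) = (z : G)⁻¹ * (t * z * t⁻¹) := congrArg Subtype.val h
      by_contra hne
      refine ht1 (hfree t ht _ (mul_mem z.2 (inv_mem y.2)) (fun e => hne (Subtype.ext (mul_inv_eq_one.1 e).symm)) ?_)
      calc t * ((z : G) * (y : G)⁻¹) = z * ((z : G)⁻¹ * (t * z * t⁻¹)) * t * (y : G)⁻¹ := by group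
        _ = z * ((y : G)⁻¹ * (t * y * t⁻¹)) * t * (y : G)⁻¹ := by rw [h']
        _ = z * (y : G)⁻¹ * t := by group
    obtain ⟨y, hy⟩ := (Finite.injective_iff_surjective.1 hf) ⟨x, hx⟩
    have hy' : (y : G)⁻¹ * (t * y * t⁻¹) = x := congrArg Subtype.val hy
    rw [← hy', htinv]
    have e : t * ((y : G)⁻¹ * (t * y * t)) * t = (t * (y : G)⁻¹ * t) * (y : G) * (t * t) := by group
    rw [e, htt, mul_one, mul_inv_rev, inv_inv, mul_inv_rev, mul_inv_rev, htinv, ← mul_assoc t]
  have hcomm : ∀ x ∈ R, ∀ y ∈ R, x * y = y * x := by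
    intro x hx y hy
    have h := hinv _ (mul_mem hx hy)
    rw [mul_inv_rev, show t * (x * y) * t = t * x * (t * t) * (y * t) by rw [htt]; group,
      show t * x * (t * t) * (y * t) = (t * x * t) * (t * y * t) by group, hinv x hx, hinv y hy] at h
    have := congrArg Inv.inv h
    rw [mul_inv_rev, mul_inv_rev, inv_inv, inv_inv] at this
    exact this.symm
  have hdvdS : ∀ P : G → Prop, (∀ x, P x → x ∈ R ∧ x ≠ 1) →
      (∀ c ∈ S, ∀ x, P x → P (c * x * c⁻¹)) → 2 ^ k ∣ Nat.card {x : G // P x} := fun P h1 h2 =>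
    hk ▸ dvd_card_free S P h2 fun c hc x hx => hfree c hc x (h1 x hx).1 (h1 x hx).2
  -- `R` has exponent `l`
  have hexp : ∀ x ∈ R, x ^ l = 1 := by
    let W : Subgroup G :=
      { carrier := {x | x ∈ R ∧ x ^ l = 1}
        one_mem' := ⟨R.one_mem, one_pow l⟩
        mul_mem' := fun {a c} ha hc => ⟨R.mul_mem ha.1 hc.1, by
          rw [Commute.mul_pow (hcomm a ha.1 c hc.1), ha.2, hc.2, one_mul]⟩
        inv_mem' := fun {a} ha => ⟨R.inv_mem ha.1, by rw [inv_pow, ha.2, inv_one]⟩ }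
    have hW : W ≤ R := fun x hx => hx.1
    obtain ⟨e, he, hWc⟩ := (Nat.dvd_prime_pow hl).1 (hR ▸ Subgroup.card_dvd_of_le hW : Nat.card W ∣ l ^ b)
    have he0 : 1 ≤ e := by
      obtain ⟨x, hx⟩ := exists_prime_orderOf_dvd_card' (G := R) l
        (hR ▸ dvd_pow_self l (by rcases hcase with h | h | h <;> omega))
      rcases Nat.eq_zero_or_pos e with rfl | h
      · exfalso
        have hxW : (x : G) ∈ W := ⟨x.2, by rw [← Subgroup.orderOf_coe] at hx; rw [← hx, pow_orderOf_eq_one]⟩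
        rw [Subgroup.eq_bot_of_card_eq W (by rw [hWc, pow_zero]), mem_bot] at hxW
        rw [← Subgroup.orderOf_coe, hxW, orderOf_one] at hx
        exact hl.one_lt.ne hx
      · exact h
    have h1 : 2 ^ k ∣ Nat.card {x : G // x ∈ W ∧ x ≠ 1} := hdvdS _ (fun x hx => ⟨hx.1.1, hx.2⟩)
      fun c hc x hx => ⟨⟨hSR c hc x hx.1.1, by rw [conj_pow, hx.1.2, mul_one, mul_inv_cancel]⟩,
        fun e => hx.2 (conj_eq_one_iff.1 e)⟩
    have h2 : Nat.card {x : G // x ∈ W ∧ x ≠ 1} = l ^ e - 1 := by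
      rw [← hWc]
      show ((W : Set G) \ {1}).ncard = (W : Set G).ncard - 1
      rw [Set.ncard_diff_singleton_of_mem W.one_mem]
    rw [h2] at h1
    have hWR : W = R := by
      refine eq_of_le_of_card_ge hW (le_of_eq ?_)
      rw [hWc, hR]
      rcases hcase with ⟨rfl, rfl, rfl⟩ | ⟨rfl, rfl, rfl⟩ | ⟨rfl, rfl, rfl⟩ <;>
        interval_cases e <;> first | rfl | (norm_num at h1)
    exact fun x hx => (hWR.symm ▸ hx : x ∈ W).2
  -- the numbers of elements with given fixed spaces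
  set n : ℕ → ℕ := fun c => Nat.card {x : G // x ∈ R ∧ x ≠ 1 ∧ fd rho x = c} with hn
  have hdiv : ∀ c, c < Module.finrank (ZMod 2) V → 2 ^ k ∣ n c := fun c _ =>
    hdvdS _ (fun x hx => ⟨hx.1, hx.2.1⟩) fun a ha x hx =>
      ⟨hSR a ha x hx.1, fun e => hx.2.1 (conj_eq_one_iff.1 e), by rw [fd_conj]; exact hx.2.2⟩
  obtain ⟨hsum, htot⟩ := sum_eq hrho R
  have hcong := card_dvd_sum rho R
  rw [hsum, hR] at hcong
  rw [hR] at htot
  have hpar : ∀ c, c < Module.finrank (ZMod 2) V →
      (2 ^ Module.finrank (ZMod 2) V + (l - 1) * 2 ^ c) % l ≠ 0 → n c = 0 := by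
    intro c _ hne
    by_contra hne'
    obtain ⟨⟨x, hx, hx1, hxc⟩⟩ := (Nat.card_pos_iff.1 (Nat.pos_of_ne_zero hne')).1
    haveI : Fintype (zpowers x) := Fintype.ofFinite _
    have hxo : orderOf x = l := orderOf_eq_prime (hexp x hx) hx1
    have h := card_dvd_sum rho (zpowers x)
    rw [Nat.card_zpowers, hxo, ← Finset.add_sum_erase _ _ (Finset.mem_univ (1 : zpowers x)),
      OneMemClass.coe_one, fd_one, Finset.sum_congr rfl (fun r hr => by
        rw [fd_eq_of_mem_zpowers rho hxo r.2 fun e => (Finset.mem_erase.1 hr).1 (Subtype.ext e), hxc]),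
      Finset.sum_const, smul_eq_mul, Finset.card_erase_of_mem (Finset.mem_univ _), Finset.card_univ,
      ← Nat.card_eq_fintype_card, Nat.card_zpowers, hxo] at h
    exact hne (Nat.mod_eq_zero_of_dvd h)
  rcases hcase with ⟨rfl, rfl, rfl⟩ | ⟨rfl, rfl, rfl⟩ | ⟨rfl, rfl, rfl⟩
  · exact false_of_nine (d := Module.finrank (ZMod 2) V) n (by omega) (by simpa using hdiv) (by simpa using hpar) (by simpa using htot)
      (Nat.mod_eq_zero_of_dvd (by simpa using hcong))
  · exact false_of_eightyOne (d := Module.finrank (ZMod 2) V) n (by omega) (by simpa using hdiv) (by simpa using hpar) (by simpa using htot)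
      (Nat.mod_eq_zero_of_dvd (by simpa using hcong))
  · exact false_of_fortyNine (d := Module.finrank (ZMod 2) V) n (by omega) (by simpa using hdiv) (by simpa using hpar) (by simpa using htot)
      (Nat.mod_eq_zero_of_dvd (by simpa using hcong))

theorem two_mul_le_two_pow {k : ℕ} (hk : 6 ≤ k) : 2 * k ≤ 2 ^ (k - 2) := by
  induction k, hk using Nat.le_induction with
  | base => norm_num
  | succ n hn ih =>
    have : 2 ^ (n + 1 - 2) = 2 * 2 ^ (n - 2) := by rw [← pow_succ']; congr 1; omega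
    omega

variable {H : Subgroup G}

/-- The bound without commuting involutions. -/
theorem dim_ge_of_no_pair (hH : Cfsg.IsStronglyEmbedded H) (hp : ¬ CfsgLib.Bender.HasPair G)
    (hrho : Function.Injective rho) (S : Sylow 2 G) {k : ℕ} (hk : Nat.card ↥(S : Subgroup G) = 2 ^ k) :
    2 * k ≤ Module.finrank (ZMod 2) V := by
  classical
  haveI : Fact (Nat.Prime 2) := ⟨Nat.prime_two⟩
  by_contra hlt
  push Not at hlt
  have heven : 2 ∣ Nat.card G := (even_iff_two_dvd.1 hH.2.1).trans (card_subgroup_dvd_card H)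
  have hk1 : 1 ≤ k := by
    rcases Nat.eq_zero_or_pos k with rfl | h
    · exfalso
      have := S.not_dvd_index
      apply this
      rw [← (S : Subgroup G).card_mul_index, hk, pow_zero, one_mul] at heven
      exact heven
    · exact h
  have hgl : Nat.card G ∣ glOrd (Module.finrank (ZMod 2) V) := card_dvd_linear rho hrho
  rcases Nat.eq_or_lt_of_le hk1 with hk1' | hk2
  · subst hk1'
    have h := heven.trans hgl
    unfold glOrd at h
    interval_cases hd : Module.finrank (ZMod 2) V <;> norm_num [Fin.prod_univ_succ] at h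
  rcases le_or_gt 6 k with h6 | h5
  · obtain ⟨u, e, hu, he⟩ : ∃ (u : G) (e : ℕ), orderOf u = 2 ^ (e + 1) ∧ k - 2 ≤ e := by
      rcases CfsgLib.Bender.sylow_shape_of_not_pair hp S with hc | ⟨m, hm, ⟨φ⟩⟩
      · haveI := hc
        obtain ⟨g, hg⟩ := IsCyclic.exists_ofOrder_eq_natCard (α := (S : Subgroup G))
        exact ⟨g, k - 1, by rw [Subgroup.orderOf_coe, hg, hk, Nat.sub_add_cancel hk1], by omega⟩
      · haveI : NeZero (2 ^ m) := ⟨pow_ne_zero m two_ne_zero⟩
        have hkm : k = m + 2 := by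
          have := Nat.card_congr φ.toEquiv
          rw [hk, Nat.card_eq_fintype_card, QuaternionGroup.card] at this
          refine Nat.pow_right_injective le_rfl (?_ : 2 ^ k = 2 ^ (m + 2))
          rw [this]; ring
        refine ⟨(φ.symm (QuaternionGroup.a 1) : (S : Subgroup G)), m, ?_, by omega⟩
        rw [Subgroup.orderOf_coe, MulEquiv.orderOf_eq, QuaternionGroup.orderOf_a_one, pow_succ']
    have h1 := two_pow_lt_finrank hrho hu
    have h2 := two_mul_le_two_pow h6
    have h3 : 2 ^ (k - 2) ≤ 2 ^ e := Nat.pow_le_pow_right two_pos he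
    omega
  -- the central involution of `S`
  haveI : Nontrivial ↥(S : Subgroup G) := Finite.one_lt_card_iff_nontrivial.1
    (hk ▸ Nat.one_lt_two_pow (by omega))
  haveI := S.isPGroup'.center_nontrivial
  obtain ⟨j, hj⟩ := IsPGroup.iff_card.1 (S.isPGroup'.to_subgroup (center ↥(S : Subgroup G)))
  have hj0 : j ≠ 0 := fun h => by
    have := Finite.one_lt_card (α := center ↥(S : Subgroup G))
    rw [hj, h] at this; norm_num at this
  obtain ⟨z, hzc, hzo⟩ := CfsgLib.Invol.exists_invol_mem (H := center ↥(S : Subgroup G))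
    (by rw [hj]; exact Nat.even_pow.2 ⟨even_two, hj0⟩)
  have ht : orderOf (z : G) = 2 := by rw [Subgroup.orderOf_coe, hzo]
  have hcentral : ∀ c ∈ (S : Subgroup G), Commute c (z : G) := fun c hc =>
    congrArg Subtype.val (mem_center_iff.1 hzc ⟨c, hc⟩)
  have huniq : ∀ c ∈ (S : Subgroup G), orderOf c = 2 → c = z := fun c hc hco =>
    by_contra fun hne => hp ⟨c, z, hco, ht, hne, hcentral c hc⟩
  -- the odd core is not centralized
  have hO : Cfsg.oddCore G ⊔ H = ⊤ := CfsgLib.Bender.oddCore_sup_eq_top hH hp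
  have hnot : ¬ Cfsg.oddCore G ≤ centralizer ({(z : G)} : Set G) := by
    intro hle
    obtain ⟨i, hi, hio⟩ := CfsgLib.Invol.exists_invol_mem hH.2.1
    obtain ⟨c, hc⟩ := isConj_iff.1 (CfsgLib.Invol.exists_conj_fixing hH ht hio)
    haveI : (Cfsg.oddCore G).Normal := Subgroup.sSup_normal _ fun _ h => h.1
    have hOH : Cfsg.oddCore G ≤ H := fun x hx => by
      refine CfsgLib.Invol.mem_of_conj_mem hH hi hio ?_
      have h1 := mem_centralizer_singleton_iff.1
        (hle ((inferInstance : (Cfsg.oddCore G).Normal).conj_mem x hx c⁻¹))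
      have e : x * i = i * x := by
        rw [← hc]
        calc x * (c * (z : G) * c⁻¹) = c * ((c⁻¹ * x * c⁻¹⁻¹) * z) * c⁻¹ := by group
          _ = c * ((z : G) * (c⁻¹ * x * c⁻¹⁻¹)) * c⁻¹ := by rw [h1]
          _ = c * (z : G) * c⁻¹ * x := by group
      rw [e, mul_inv_cancel_right]
      exact hi
    rw [sup_eq_right.2 hOH] at hO
    exact hH.1 hO
  -- an invariant Sylow subgroup of the odd core
  haveI hOn : (Cfsg.oddCore G).Normal := Subgroup.sSup_normal _ fun _ h => h.1
  have hOodd : Odd (Nat.card (Cfsg.oddCore G)) := CfsgLib.Bender.Core.odd_card_oddCore G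
  have hcop : (Nat.card (S : Subgroup G)).Coprime (Nat.card (Cfsg.oddCore G)) :=
    hk ▸ Nat.Coprime.pow_left k (Nat.coprime_two_left.2 hOodd)
  have hsolv : Group.IsSolvable (S : Subgroup G) :=
    CfsgLib.Coprime.isSolvable_of_isNilpotent S.isPGroup'.isNilpotent
  obtain ⟨l, hl, R, hR, hSR, hnotR⟩ : ∃ l, l.Prime ∧ ∃ R, CfsgLib.Coprime.IsSylowIn l R (Cfsg.oddCore G) ∧
      (S : Subgroup G) ≤ normalizer (R : Set G) ∧ ¬ R ≤ centralizer ({(z : G)} : Set G) := by
    by_contra hno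
    push Not at hno
    apply hnot
    set C0 := Cfsg.oddCore G ⊓ centralizer ({(z : G)} : Set G) with hC0
    have hdvd : Nat.card (Cfsg.oddCore G) ∣ Nat.card C0 := by
      refine (Nat.factorization_le_iff_dvd Nat.card_pos.ne' Nat.card_pos.ne').1 fun l => ?_
      by_cases hl : l.Prime
      · haveI : Fact l.Prime := ⟨hl⟩
        obtain ⟨R, hR, hSR⟩ := CfsgLib.Coprime.exists_invariant_sylow
          (show (S : Subgroup G) ≤ normalizer (Cfsg.oddCore G : Set G) by rw [normalizer_eq_top]; exact le_top)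
          hcop (Or.inl hsolv) l
        refine (Nat.Prime.pow_dvd_iff_le_factorization hl Nat.card_pos.ne').1 ?_
        rw [← hR.2]
        exact card_dvd_of_le (le_inf hR.1 (hno l hl R hR hSR))
      · rw [Nat.factorization_eq_zero_of_not_prime _ hl]
        exact Nat.zero_le _
    have : C0 = Cfsg.oddCore G :=
      eq_of_le_of_card_ge inf_le_left (Nat.le_of_dvd Nat.card_pos hdvd)
    exact this ▸ inf_le_right
  haveI : Fact l.Prime := ⟨hl⟩
  obtain ⟨a, haR⟩ : ∃ a, Nat.card R = l ^ a := ⟨_, hR.2⟩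
  set C := R ⊓ centralizer ({(z : G)} : Set G) with hC
  obtain ⟨c₀, hc₀, hCc⟩ := (Nat.dvd_prime_pow hl).1
    (haR ▸ card_dvd_of_le inf_le_left : Nat.card C ∣ l ^ a)
  have hlt' : c₀ < a := by
    rcases Nat.lt_or_ge c₀ a with h | h
    · exact h
    · exfalso
      have : C = R := eq_of_le_of_card_ge inf_le_left (by
        rw [hCc, haR]; exact Nat.pow_le_pow_right hl.pos h)
      exact hnotR (this ▸ inf_le_right)
  obtain ⟨b, rfl⟩ : ∃ b, a = c₀ + b := ⟨a - c₀, by omega⟩
  have hfree : ∀ c ∈ (S : Subgroup G), ∀ x ∈ R, x ∉ C → c * x = x * c → c = 1 := by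
    intro c hc x hx hxC hcx
    by_contra hc1
    obtain ⟨n, hn⟩ := S.isPGroup' ⟨c, hc⟩
    have hn' : c ^ 2 ^ n = 1 := congrArg Subtype.val hn
    obtain ⟨i, hi, hio⟩ := (Nat.dvd_prime_pow Nat.prime_two).1 (orderOf_dvd_of_pow_eq_one hn')
    rcases Nat.eq_zero_or_pos i with rfl | hi0
    · exact hc1 (orderOf_eq_one_iff.1 (by simpa using hio))
    have ho : orderOf (c ^ 2 ^ (i - 1)) = 2 := by
      rw [orderOf_pow' c (pow_ne_zero _ two_ne_zero), hio, Nat.gcd_eq_right (pow_dvd_pow 2 (Nat.sub_le i 1)),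
        Nat.pow_div (Nat.sub_le i 1) two_pos, show i - (i - 1) = 1 by omega, pow_one]
    have heq := huniq _ (pow_mem hc _) ho
    exact hxC ⟨hx, mem_centralizer_singleton_iff.2 (heq ▸ ((show Commute c x from hcx).pow_left _).eq.symm)⟩
  have hSRmem : ∀ c ∈ (S : Subgroup G), ∀ x ∈ R, c * x * c⁻¹ ∈ R := fun c hc x hx =>
    (mem_normalizer_iff.1 (hSR hc) x).1 hx
  -- semiregularity on the complement of `C`
  have hdvd : 2 ^ k ∣ l ^ c₀ * (l ^ b - 1) := by
    have h1 := dvd_card_free (S : Subgroup G) (fun x => x ∈ R ∧ x ∉ C)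
      (fun c hc x hx => ⟨hSRmem c hc x hx.1, fun h => hx.2 ⟨hx.1, mem_centralizer_singleton_iff.2 (by
        have h2 := mem_centralizer_singleton_iff.1 h.2
        have h3 := hcentral c hc
        calc x * (z : G) = c⁻¹ * ((c * x * c⁻¹) * (c * z)) := by group
          _ = c⁻¹ * ((c * x * c⁻¹) * z * c) := by rw [h3.eq]; group
          _ = c⁻¹ * ((z : G) * (c * x * c⁻¹) * c) := by rw [h2]
          _ = c⁻¹ * (z * c) * x := by group
          _ = (z : G) * x := by rw [← h3.eq]; group)⟩⟩)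
      fun c hc x hx => hfree c hc x hx.1 hx.2
    have h2 : Nat.card {x : G // x ∈ R ∧ x ∉ C} = Nat.card R - Nat.card C := by
      show ((R : Set G) \ (C : Set G)).ncard = (R : Set G).ncard - (C : Set G).ncard
      exact Set.ncard_sdiff (show (C : Set G) ⊆ R from fun x hx => hx.1) (Set.toFinite _)
    rw [h2, haR, hCc, hk, pow_add, ← Nat.mul_sub_one] at h1
    exact h1
  have hlodd : l ≠ 2 := by
    rintro rfl
    have h1 : 2 ∣ Nat.card (Cfsg.oddCore G) :=
      ((dvd_pow_self 2 (by omega : c₀ + b ≠ 0)).trans (haR ▸ dvd_rfl)).trans (card_dvd_of_le hR.1)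
    exact Nat.not_even_iff_odd.2 hOodd (even_iff_two_dvd.2 h1)
  have hmod : (l ^ b - 1) % 2 ^ k = 0 := Nat.mod_eq_zero_of_dvd
    ((Nat.Coprime.pow _ _ ((Nat.coprime_primes Nat.prime_two hl).2 (Ne.symm hlodd))).dvd_of_dvd_mul_left hdvd)
  have hRgl : l ^ (c₀ + b) ∣ glOrd (Module.finrank (ZMod 2) V) :=
    haR ▸ (card_subgroup_dvd_card R).trans hgl
  have hcase := primePower_cases hl hlodd (by omega : 0 < b) (by omega) (by omega) hlt
    ((pow_dvd_pow l (Nat.le_add_left b c₀)).trans hRgl) hmod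
  have hc0 : c₀ = 0 := by
    rcases hcase with ⟨rfl, rfl, rfl⟩ | ⟨rfl, rfl, rfl⟩ | ⟨rfl, rfl, rfl⟩
    · have := exp_le hRgl (three_part_five (by omega)); omega
    · have := exp_le hRgl (three_part (by omega)); omega
    · have := exp_le hRgl (seven_part (by omega)); omega
  subst hc0
  have hCbot : C = ⊥ := Subgroup.eq_bot_of_card_eq C (by rw [hCc, pow_zero])
  refine false_of_free_action rho hrho (S : Subgroup G) R hl hlt z.2
    (by have := pow_orderOf_eq_one (z : G); rwa [ht, pow_two] at this) (CfsgLib.Invol.invol_ne_one ht) hk hSRmem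
    (fun c hc x hx hx1 h => hfree c hc x hx (fun hxC => hx1 (mem_bot.1 (hCbot ▸ hxC))) h)
    (by rw [haR, zero_add]) hcase

end CfsgLib.Bender.ModDim
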