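import Cfsg.Agent.Lib.Bender.Full.Main
import Cfsg.Agent.Lib.Invol.StronglyEmbeddedOrbits
import Cfsg.Agent.Lib.Bender.Consumers.DimBound.Prime

/-!
# Dimension bounds for groups with a strongly embedded subgroup and commuting involutions
-/

set_option autoImplicit false
set_option linter.style.haveILetI false

namespace CfsgLib.Bender.ModDim

open Subgroup
open CfsgLib.Invol (mem_of_conj_mem exists_invol_mem)

universe u

/-- Orders for a regular two-subgroup. -/
theorem regular_card {X : Type u} [Group X] [Finite X] {K : Subgroup X} (hK : Cfsg.IsStronglyEmbedded K)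
    {Q : Subgroup X} (hQK : Q ≤ K) (hQ : IsPGroup 2 Q)
    (hreg : ∀ g k : X, g ∉ K → k ∉ K → ∃! x, x ∈ Q ∧ k⁻¹ * (x * g) ∈ K) :
    K.index = Nat.card Q + 1 ∧ ∃ m : ℕ, Odd m ∧ Nat.card K = Nat.card Q * m := by
  classical
  obtain ⟨g, hg⟩ : ∃ g, g ∉ K := by
    by_contra h
    push Not at h
    exact hK.1 (eq_top_iff.2 fun x _ => h x)
  have hxg : ∀ x : Q, (x : X) * g ∉ K := fun x e => hg (by simpa using mul_mem (inv_mem (hQK x.2)) e)
  refine ⟨?_, ?_⟩
  · let f : Option Q → X ⧸ K := fun o => o.elim ((1 : X) : X ⧸ K) (fun x => (((x : X) * g : X) : X ⧸ K))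
    have hf : Function.Bijective f := by
      refine ⟨?_, fun c => ?_⟩
      · intro o o' h
        rcases o with _ | x <;> rcases o' with _ | y <;> simp only [f, Option.elim] at h
        · rfl
        · exfalso; exact hxg y (by simpa using QuotientGroup.eq.1 h)
        · exfalso; exact hxg x (by simpa using QuotientGroup.eq.1 h.symm)
        · obtain ⟨z, -, hz⟩ := hreg g ((y : X) * g) hg (hxg y)
          have h1 := hz x ⟨x.2, QuotientGroup.eq.1 h.symm⟩
          have h2 := hz y ⟨y.2, by simp⟩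
          rw [Subtype.ext (h1.trans h2.symm)]
      · obtain ⟨k, rfl⟩ := QuotientGroup.mk_surjective c
        by_cases hk : k ∈ K
        · exact ⟨none, QuotientGroup.eq.2 (by simpa using hk)⟩
        · obtain ⟨x, ⟨hx, hxH⟩, -⟩ := hreg g k hg hk
          exact ⟨some ⟨x, hx⟩, (QuotientGroup.eq.2 hxH).symm⟩
    rw [Subgroup.index_eq_card, ← Nat.card_congr (Equiv.ofBijective f hf), Finite.card_option]
  · set D := K ⊓ K.map (MulAut.conj g).toMonoidHom with hD
    have hodd : Odd (Nat.card D) := hK.2.2 g hg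
    refine ⟨Nat.card D, hodd, ?_⟩
    let f : Q × D → K := fun p => ⟨(p.1 : X) * p.2, mul_mem (hQK p.1.2) p.2.2.1⟩
    have hf : Function.Bijective f := by
      refine ⟨?_, fun h => ?_⟩
      · rintro ⟨x, d⟩ ⟨x', d'⟩ h
        have h' : (x : X) * d = (x' : X) * d' := congrArg Subtype.val h
        have e : (x' : X)⁻¹ * x = d' * (d : X)⁻¹ := by
          rw [eq_mul_inv_iff_mul_eq, mul_assoc, h', inv_mul_cancel_left]
        have hy : (x' : X)⁻¹ * x ∈ D := e ▸ mul_mem d'.2 (inv_mem d.2)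
        obtain ⟨j, hj⟩ := hQ ⟨_, mul_mem (inv_mem x'.2) x.2⟩
        have h1 := CfsgLib.Bender.Full.eq_of_two_element hodd hy (congrArg Subtype.val hj)
        have hx : x = x' := Subtype.ext (inv_mul_eq_one.1 h1).symm
        subst hx
        exact Prod.ext rfl (Subtype.ext (mul_left_cancel h'))
      · obtain ⟨x, hx, d, hd, e⟩ := CfsgLib.Bender.Full.exists_mul hQK hreg hg h.2
        exact ⟨(⟨x, hx⟩, ⟨d, hd⟩), Subtype.ext e.symm⟩
    rw [← Nat.card_congr (Equiv.ofBijective f hf), Nat.card_prod]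

variable {G : Type u} [Group G] [Finite G] {H : Subgroup G}

/-- The quotient by the core has a regular normal two-subgroup of the order of a Sylow subgroup. -/
theorem pair_data (hH : Cfsg.IsStronglyEmbedded H) (hp : CfsgLib.Bender.HasPair G) (S : Sylow 2 G) {k : ℕ}
    (hk : Nat.card ↥(S : Subgroup G) = 2 ^ k) :
    H.index = 2 ^ k + 1 ∧ ∃ (Q : Subgroup (G ⧸ H.normalCore)) (m : ℕ),
      Q ≤ H.map (QuotientGroup.mk' H.normalCore) ∧
      H.map (QuotientGroup.mk' H.normalCore) ≤ normalizer (Q : Set (G ⧸ H.normalCore)) ∧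
      Nat.card Q = 2 ^ k ∧ Odd m ∧ Nat.card (G ⧸ H.normalCore) = 2 ^ k * m := by
  obtain ⟨hH', hcore, hp'⟩ := CfsgLib.Bender.Full.exists_quotient hH hp
  obtain ⟨Q, hQ, hQn, hQ2, hreg⟩ := CfsgLib.Bender.Full.fullStatement _ _ hH' hcore hp'
  obtain ⟨hidx, m, hm, hK⟩ := regular_card hH' hQ hQ2 hreg
  haveI : Fact (Nat.Prime 2) := ⟨Nat.prime_two⟩
  obtain ⟨j, hj⟩ := IsPGroup.iff_card.1 hQ2
  have hindex : (H.map (QuotientGroup.mk' H.normalCore)).index = H.index :=
    index_map_eq H (QuotientGroup.mk'_surjective _) (by rw [QuotientGroup.ker_mk']; exact H.normalCore_le)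
  have hodd1 : Odd (2 ^ j + 1) := by
    rcases Nat.eq_zero_or_pos j with rfl | h0
    · exfalso
      have he := hH'.2.1
      rw [hK, hj] at he
      simp only [pow_zero, one_mul] at he
      exact (Nat.not_even_iff_odd.2 hm) he
    · exact ((Nat.even_pow' (by omega)).2 even_two).add_one
  have hX : Nat.card (G ⧸ H.normalCore) = 2 ^ j * (m * (2 ^ j + 1)) := by
    rw [← (H.map (QuotientGroup.mk' H.normalCore)).card_mul_index, hK, hidx, hj, mul_assoc]
  have hmo : Odd (m * (2 ^ j + 1)) := hm.mul hodd1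
  have hG : Nat.card G = 2 ^ j * (m * (2 ^ j + 1) * Nat.card H.normalCore) := by
    rw [H.normalCore.card_eq_card_quotient_mul_card_subgroup, hX, mul_assoc]
  haveI : Fact (Nat.Prime 2) := ⟨Nat.prime_two⟩
  have hS := (S : Subgroup G).card_mul_index
  have hSo : Odd (S : Subgroup G).index := Nat.odd_iff.2 (by
    have := S.not_dvd_index
    omega)
  rw [hk, hG] at hS
  have hjk : k = j := by
    have h1 : 2 ^ k ∣ 2 ^ j := (Nat.Coprime.pow_left k (Nat.coprime_two_left.2
      (hmo.mul (CfsgLib.Bender.Full.odd_normalCore hH)))).dvd_of_dvd_mul_right (hS ▸ dvd_mul_right _ _)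
    have h2 : 2 ^ j ∣ 2 ^ k := (Nat.Coprime.pow_left j (Nat.coprime_two_left.2 hSo)).dvd_of_dvd_mul_right
      (hS.symm ▸ dvd_mul_right _ _)
    exact le_antisymm ((Nat.pow_dvd_pow_iff_le_right (by norm_num)).1 h1)
      ((Nat.pow_dvd_pow_iff_le_right (by norm_num)).1 h2)
  subst hjk
  exact ⟨by rw [← hindex, hidx, hj], Q, _, hQ, hQn, hj, hmo, hX⟩

variable {V : Type*} [AddCommGroup V] [Module (ZMod 2) V] [Module.Finite (ZMod 2) V]
  (rho : Representation (ZMod 2) G V)

/-- The bound by a primitive divisor of `2 ^ k + 1`. -/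
theorem dim_ge_of_pair (hH : Cfsg.IsStronglyEmbedded H) (hp : CfsgLib.Bender.HasPair G)
    (hrho : Function.Injective rho) (S : Sylow 2 G) {k : ℕ} (hk : Nat.card ↥(S : Subgroup G) = 2 ^ k)
    (h3 : k ≠ 3) : 2 * k ≤ Module.finrank (ZMod 2) V := by
  refine CfsgLib.DimBound.two_mul_le_finrank rho hrho h3 ?_
  rw [← (pair_data hH hp S hk).1]
  exact H.index_dvd_card

/-- A Sylow two-subgroup of order eight is elementary abelian. -/
theorem sq_eq_one_of_card_eight (hH : Cfsg.IsStronglyEmbedded H) (hp : CfsgLib.Bender.HasPair G)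
    (S : Sylow 2 G) (hk : Nat.card ↥(S : Subgroup G) = 8) : ∀ s ∈ (S : Subgroup G), s ^ 2 = 1 := by
  haveI : Fact (Nat.Prime 2) := ⟨Nat.prime_two⟩
  obtain ⟨hH', hcore, hp'⟩ := CfsgLib.Bender.Full.exists_quotient hH hp
  obtain ⟨-, Q, m, hQH, hQn, hQc, hm, hX⟩ := pair_data hH hp S (k := 3) (by rw [hk]; norm_num)
  have hfac : (Nat.card (G ⧸ H.normalCore)).factorization 2 = 3 := by
    rw [hX, Nat.factorization_mul (by norm_num) (by rcases hm with ⟨i, rfl⟩; omega), Finsupp.add_apply,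
      Nat.Prime.factorization_pow Nat.prime_two, Finsupp.single_eq_same,
      Nat.factorization_eq_zero_of_not_dvd (fun h => (Nat.not_even_iff_odd.2 hm) (even_iff_two_dvd.2 h)),
      add_zero]
  let P : Sylow 2 (G ⧸ H.normalCore) := Sylow.ofCard Q (by rw [hfac, hQc])
  have hQ2 : IsPGroup 2 Q := IsPGroup.of_card hQc
  -- two-elements of the strongly embedded subgroup lie in `Q`
  have hmem : ∀ x ∈ H.map (QuotientGroup.mk' H.normalCore), IsPGroup 2 (zpowers x) → x ∈ Q := by
    intro x hx hx2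
    have hsup : IsPGroup 2 (zpowers x ⊔ Q : Subgroup (G ⧸ H.normalCore)) :=
      hx2.to_sup_of_normal_right' hQ2 ((zpowers_le.2 hx).trans hQn)
    have := P.3 (Q := zpowers x ⊔ Q) hsup (le_sup_right : Q ≤ zpowers x ⊔ Q)
    exact this.le (mem_sup_left (mem_zpowers x))
  have hz2 : ∀ x : G ⧸ H.normalCore, orderOf x = 2 → IsPGroup 2 (zpowers x) := fun x hx =>
    IsPGroup.of_card (n := 1) (by rw [Nat.card_zpowers, hx, pow_one])
  -- two involutions in `Q`
  obtain ⟨t, s, ht, hs, hne, hc⟩ := hp'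
  obtain ⟨i, hi, hio⟩ := exists_invol_mem hH'.2.1
  obtain ⟨c, hct⟩ := isConj_iff.1 (CfsgLib.Invol.exists_conj_fixing hH' ht hio)
  have hsH : c * s * c⁻¹ ∈ H.map (QuotientGroup.mk' H.normalCore) := by
    refine CfsgLib.Invol.mem_of_conj_mem hH' hi hio ?_
    have e : c * s * c⁻¹ * i = i * (c * s * c⁻¹) := by
      rw [← hct]
      exact (hc.symm.map (MulAut.conj c)).eq
    rw [e, mul_inv_cancel_right]
    exact hi
  have hso : orderOf (c * s * c⁻¹) = 2 := CfsgLib.Invol.invol_conj hs c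
  have hiQ := hmem i hi (hz2 i hio)
  have hsQ := hmem _ hsH (hz2 _ hso)
  have hne' : c * s * c⁻¹ ≠ i := fun e => hne (by
    have := e.trans hct.symm
    exact (mul_left_cancel (mul_right_cancel this)).symm)
  -- squares in `Q`
  have hsq : ∀ x ∈ Q, x ^ 2 = 1 := by
    by_contra hno
    push Not at hno
    obtain ⟨x, hx, hx1⟩ := hno
    have hord : ∀ y ∈ Q, orderOf y ∣ 4 := by
      intro y hy
      obtain ⟨j, hj, hjo⟩ := (Nat.dvd_prime_pow Nat.prime_two).1
        (hQc ▸ Subgroup.orderOf_dvd_natCard Q hy : orderOf y ∣ 2 ^ 3)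
      rw [hjo]
      rcases Nat.lt_or_ge j 3 with hj3 | hj3
      · exact (pow_dvd_pow 2 (by omega : j ≤ 2)).trans (by norm_num)
      · exfalso
        have heq : zpowers y = Q := eq_of_le_of_card_ge (zpowers_le.2 hy) (by
          rw [hQc, Nat.card_zpowers, hjo]; exact Nat.pow_le_pow_right (by norm_num) hj3)
        have huniq : ∀ w ∈ Q, orderOf w = 2 → w = y ^ 4 := by
          intro w hw hwo
          obtain ⟨l, hl⟩ := mem_powers_iff_mem_zpowers.2 (heq ▸ hw : w ∈ zpowers y)
          have hl' : y ^ l = w := hl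
          have hy8 : orderOf y = 8 := by
            rw [hjo, show j = 3 by omega]; norm_num
          have h2 : y ^ (l * 2) = 1 := by rw [pow_mul, hl', ← hwo, pow_orderOf_eq_one]
          have h8 : 8 ∣ l * 2 := hy8 ▸ orderOf_dvd_of_pow_eq_one h2
          have h9 : y ^ (l % 8) = w := by rw [← hy8, pow_mod_orderOf, hl']
          rcases (show l % 8 = 0 ∨ l % 8 = 4 by omega) with e | e <;> rw [e] at h9
          · rw [pow_zero] at h9
            exact absurd h9.symm (CfsgLib.Invol.invol_ne_one hwo)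
          · exact h9.symm
        exact hne' ((huniq _ hsQ hso).trans (huniq i hiQ hio).symm)
    have hxo : orderOf x = 4 := by
      obtain ⟨j, hj, hjo⟩ := (Nat.dvd_prime_pow Nat.prime_two).1 (show orderOf x ∣ 2 ^ 2 from hord x hx)
      interval_cases j
      · exact absurd (by rw [pow_zero, orderOf_eq_one_iff] at hjo; rw [hjo, one_pow]) hx1
      · exact absurd (by rw [← show orderOf x = 2 by simpa using hjo, pow_orderOf_eq_one]) hx1
      · simpa using hjo
    have hX : Nat.card (zpowers x) = 4 := by rw [Nat.card_zpowers, hxo]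
    have hidx : ((zpowers x).subgroupOf Q).index = 2 := by
      have h := ((zpowers x).subgroupOf Q).card_mul_index
      rw [Nat.card_congr (subgroupOfEquivOfLe (zpowers_le.2 hx)).toEquiv, hX, hQc] at h
      omega
    have hsquare : ∀ y ∈ Q, y ^ 2 = 1 ∨ y ^ 2 = x ^ 2 := by
      intro y hy
      have h1 : (⟨y, hy⟩ : Q) ^ 2 ∈ (zpowers x).subgroupOf Q := Subgroup.sq_mem_of_index_two hidx _
      rw [mem_subgroupOf, SubgroupClass.coe_pow] at h1
      obtain ⟨l, hl⟩ := mem_powers_iff_mem_zpowers.2 h1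
      have hl' : x ^ l = y ^ 2 := hl
      have h4 : x ^ (l % 4) = y ^ 2 := by rw [← hxo, pow_mod_orderOf, hl']
      have hy4 : y ^ 4 = 1 := orderOf_dvd_iff_pow_eq_one.1 (hord y hy)
      have h5 : x ^ (2 * (l % 4)) = 1 := by rw [mul_comm, pow_mul, h4, ← pow_mul]; exact hy4
      have h6 := orderOf_dvd_of_pow_eq_one h5
      rw [hxo] at h6
      rcases (show l % 4 = 0 ∨ l % 4 = 2 by omega) with e | e <;> rw [e] at h4
      · exact Or.inl (by rw [← h4, pow_zero])
      · exact Or.inr h4.symm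
    have hx2o : orderOf (x ^ 2) = 2 := by
      refine orderOf_eq_prime ?_ hx1
      rw [← pow_mul, show 2 * 2 = orderOf x by rw [hxo]]; exact pow_orderOf_eq_one x
    have hfix : ∀ w ∈ Q, orderOf w = 2 → w = x ^ 2 := by
      intro w hw hwo
      obtain ⟨c, hc⟩ := isConj_iff.1 (CfsgLib.Invol.exists_conj_fixing hH' hx2o hwo)
      have hcH := mem_of_conj_mem hH' (hQH (pow_mem hx 2)) hx2o (by rw [hc]; exact hQH hw)
      have hcx : c * x * c⁻¹ ∈ Q := (mem_normalizer_iff.1 (hQn hcH) x).1 hx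
      rcases hsquare _ hcx with e | e <;> rw [conj_pow, hc] at e
      · exact absurd e (CfsgLib.Invol.invol_ne_one hwo)
      · exact e
    exact hne' ((hfix _ hsQ hso).trans (hfix i hiQ hio).symm)
  intro a ha
  obtain ⟨n, hn⟩ := S.2 ⟨a, ha⟩
  set b := QuotientGroup.mk' H.normalCore a with hb
  have hb2 : IsPGroup 2 (zpowers b) := by
    have h : IsPGroup 2 ((S : Subgroup G).map (QuotientGroup.mk' H.normalCore)) := S.2.map _
    exact h.to_le (zpowers_le.2 (mem_map_of_mem _ ha))
  obtain ⟨g, hg⟩ := CfsgLib.Invol.exists_conj_le_sylow hb2 P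
  have hb1 : b ^ 2 = 1 := by
    have h := hsq _ (hg b (mem_zpowers b))
    rw [conj_pow, conj_eq_one_iff] at h
    exact h
  rw [hb, ← map_pow, QuotientGroup.mk'_apply, QuotientGroup.eq_one_iff] at hb1
  exact CfsgLib.Bender.Full.eq_of_two_element (CfsgLib.Bender.Full.odd_normalCore hH) hb1 (k := n)
    (by rw [← pow_mul, mul_comm, pow_mul, show a ^ 2 ^ n = 1 from congrArg Subtype.val hn, one_pow])

end CfsgLib.Bender.ModDim
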